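import Cfsg.Agent.Lib.Invol.GW.Reduce
import Cfsg.Agent.S0508
import Cfsg.Agent.S3280
import Cfsg.Agent.S0254
import Cfsg.Agent.S0144

/-!
# The endgames for groups with dihedral Sylow 2-subgroups

An inverted core with trivial intersection properties leads to the Brauer–Suzuki–Wall configuration; an element of
order four with a centraliser of 2-power order in a group with Sylow subgroups of order eight leads to the alternating
group of degree seven or a small linear group.
-/

set_option autoImplicit false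
set_option linter.unusedSectionVars false

namespace Cfsg.Agent.Invol.GW

open Subgroup DihedralGroup Cfsg
open scoped Pointwise

universe u

/-- The conclusion of the classification of groups with dihedral Sylow 2-subgroups. -/
def IsPSLTwoOrSeven (Y : Type*) [Group Y] : Prop :=
  (∃ (F : Type) (_ : Field F) (_ : Fintype F), Odd (Fintype.card F) ∧ 3 < Fintype.card F ∧
      Nonempty (Y ≃* Matrix.ProjectiveSpecialLinearGroup (Fin 2) F)) ∨
    Nonempty (Y ≃* alternatingGroup (Fin 7))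

/-- The classification of the simple groups gives that of the perfect groups modulo their core. -/
theorem s0483_of_simple
    (hsimp : ∀ (Y : Type u) [Group Y] [Finite Y] [IsSimpleGroup Y] (T : Sylow 2 Y) (n : ℕ), 2 ≤ n →
      Nonempty ((T : Subgroup Y) ≃* DihedralGroup n) → ¬ IsMulCommutative Y → IsPSLTwoOrSeven Y)
    {X : Type u} [Group X] [Finite X] [Group.IsPerfect X] (S : Sylow 2 X) (n : ℕ) (hn : 2 ≤ n)
    (hS : Nonempty ((S : Subgroup X) ≃* DihedralGroup n)) :
    (∃ (F : Type) (_ : Field F) (_ : Fintype F), Odd (Fintype.card F) ∧ 3 < Fintype.card F ∧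
        Nonempty (X ⧸ Cfsg.oddCore X ≃* Matrix.ProjectiveSpecialLinearGroup (Fin 2) F)) ∨
      Nonempty (X ⧸ Cfsg.oddCore X ≃* alternatingGroup (Fin 7)) := by
  obtain ⟨hs, hna, T, hT⟩ := quotient_core_simple S hn hS.some
  exact hsimp (X ⧸ Cfsg.oddCore X) T n hn hT hna

variable {G : Type u} [Group G] [Finite G] [IsSimpleGroup G]

/-- An inverted core with trivial intersections: the group is linear of degree two. -/
theorem psl_of_inverted (S : Sylow 2 G) (n : ℕ) (hn : 2 ≤ n) (hS : Nonempty ((S : Subgroup G) ≃* DihedralGroup n))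
    (t : G) (ht : orderOf t = 2) (htS : t ∈ (S : Subgroup G))
    (htZ : ∀ s ∈ (S : Subgroup G), s * t = t * s) (O : Subgroup G)
    (hO : O = (Cfsg.oddCore (Subgroup.centralizer ({t} : Set G))).map (Subgroup.centralizer ({t} : Set G)).subtype)
    (hu : ∀ u ∈ (S : Subgroup G), orderOf u = 2 → u ≠ t → ∀ x ∈ O, u * x = x * u → x = 1)
    (hc : ∀ Y : Subgroup G, Y ≤ O → Y ≠ ⊥ →
      Subgroup.normalizer (Y : Set G) ≤ Subgroup.centralizer ({t} : Set G)) :
    ∃ (F : Type) (_ : Field F) (_ : Fintype F), Odd (Fintype.card F) ∧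
      Nonempty (G ≃* Matrix.ProjectiveSpecialLinearGroup (Fin 2) F) := by
  classical
  obtain ⟨e⟩ := hS
  have : NeZero n := ⟨by omega⟩
  -- the involutions other than `t` invert the core
  have hnorm : ∀ u ∈ (S : Subgroup G), ∀ x ∈ O, u * x * u⁻¹ ∈ O := by
    intro u hu x hx
    rw [hO] at hx ⊢
    obtain ⟨y, hy, rfl⟩ := hx
    have hn : (Cfsg.pPrimeCore 2 (Subgroup.centralizer ({t} : Set G))).Normal := Grp.pPrimeCore_isNormal
    exact ⟨⟨u, mem_centralizer_singleton_iff.2 (htZ u hu)⟩ * y * ⟨u, mem_centralizer_singleton_iff.2 (htZ u hu)⟩⁻¹,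
      hn.conj_mem y hy _, rfl⟩
  have hinv : ∀ u ∈ (S : Subgroup G), orderOf u = 2 → u ≠ t → ∀ x ∈ O, u * x * u⁻¹ = x⁻¹ := by
    intro u hu' hu2 hut
    let f : O → O := fun y => ⟨(y : G)⁻¹ * (u * y * u⁻¹), mul_mem (inv_mem y.2) (hnorm u hu' y y.2)⟩
    have hf : Function.Injective f := by
      intro a b h
      have h' : (a : G)⁻¹ * (u * a * u⁻¹) = (b : G)⁻¹ * (u * b * u⁻¹) := congrArg Subtype.val h
      refine Subtype.ext ?_
      have h1 := hu u hu' hu2 hut ((b : G) * (a : G)⁻¹) (mul_mem b.2 (inv_mem a.2)) (by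
        calc u * ((b : G) * (a : G)⁻¹) = (u * b * u⁻¹) * (u * a * u⁻¹)⁻¹ * u := by group
          _ = (b : G) * ((b : G)⁻¹ * (u * b * u⁻¹)) * (u * a * u⁻¹)⁻¹ * u := by group
          _ = (b : G) * ((a : G)⁻¹ * (u * a * u⁻¹)) * (u * a * u⁻¹)⁻¹ * u := by rw [h']
          _ = _ := by group)
      exact (mul_inv_eq_one.1 h1).symm
    intro x hx
    obtain ⟨y, hy⟩ := Finite.injective_iff_surjective.1 hf ⟨x, hx⟩
    have hy' : (y : G)⁻¹ * (u * y * u⁻¹) = x := congrArg Subtype.val hy
    have huu : u⁻¹ = u := inv_of_orderOf_two hu2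
    rw [← hy']
    calc u * ((y : G)⁻¹ * (u * y * u⁻¹)) * u⁻¹
        = (u * y * u⁻¹)⁻¹ * (u * u) * y * (u⁻¹ * u⁻¹) := by group
      _ = (u * y * u⁻¹)⁻¹ * y := by rw [mul_self_of_orderOf_two hu2, huu, mul_self_of_orderOf_two hu2]; group
      _ = ((y : G)⁻¹ * (u * y * u⁻¹))⁻¹ := by group
  -- the dihedral elements
  let f : DihedralGroup n →* G := (S : Subgroup G).subtype.comp e.symm.toMonoidHom
  have hfS : ∀ d, f d ∈ (S : Subgroup G) := fun d => (e.symm d).2
  have hfinj : Function.Injective f := (S : Subgroup G).subtype_injective.comp e.symm.injective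
  have hfsurj : ∀ s ∈ (S : Subgroup G), ∃ d, f d = s := fun s hs => ⟨e ⟨s, hs⟩, by simp [f]⟩
  obtain ⟨K, hK⟩ : ∃ K, K = (S : Subgroup G) ⊓ Subgroup.centralizer (O : Set G) := ⟨_, rfl⟩
  -- product of two inverting elements centralises
  have hsr : ∀ i, f (sr i) ≠ t → ∀ x ∈ O, f (sr i) * x * (f (sr i))⁻¹ = x⁻¹ := fun i hi =>
    hinv _ (hfS _) ((orderOf_injective f hfinj _).trans (orderOf_sr i)) hi
  have htc : ∀ x ∈ O, t * x * t⁻¹ = x := fun x hx => by
    rw [hO] at hx
    obtain ⟨y, -, rfl⟩ := hx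
    show t * (y : G) * t⁻¹ = (y : G)
    rw [← (mem_centralizer_singleton_iff.1 y.2)]
    exact mul_inv_cancel_right _ _
  -- each element either inverts or centralises
  have hrot : ∀ a b : G, (∀ x ∈ O, a * x * a⁻¹ = x⁻¹) → (∀ x ∈ O, b * x * b⁻¹ = x⁻¹) →
      ∀ x ∈ O, (a * b) * x * (a * b)⁻¹ = x := fun a b ha hb x hx => by
    calc (a * b) * x * (a * b)⁻¹ = a * (b * x * b⁻¹) * a⁻¹ := by group
      _ = a * x⁻¹ * a⁻¹ := by rw [hb x hx]
      _ = x := by rw [ha _ (inv_mem hx), inv_inv]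
  have hone : O = ⊥ ∨ ∃ x ∈ O, x ≠ x⁻¹ := by
    by_cases h : O = ⊥
    · exact Or.inl h
    · obtain ⟨x, hx, hx1⟩ := (Subgroup.bot_or_exists_ne_one O).resolve_left h
      refine Or.inr ⟨x, hx, fun h2 => hx1 ?_⟩
      have hodd : (Nat.card O).Coprime 2 := by
        rw [hO, Subgroup.card_map_of_injective (Subgroup.subtype_injective _)]
        exact Grp.pPrimeCore_coprime
      have h3 : orderOf x ∣ 2 := orderOf_dvd_of_pow_eq_one (by
        rw [pow_two]; exact mul_eq_one_iff_eq_inv.2 h2)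
      exact orderOf_eq_one_iff.1 (Nat.eq_one_of_dvd_coprimes hodd (Subgroup.orderOf_dvd_natCard _ hx) h3)
  -- two cases: the central involution is a rotation or the group is a four group
  have hn2 : ∀ i, f (sr i) = t → n = 2 := by
    intro i hi
    by_contra hne
    have h1 := htZ _ (hfS (r 1))
    rw [← hi, ← map_mul, ← map_mul, r_mul_sr, sr_mul_r] at h1
    have h2 : i - 1 = i + 1 := DihedralGroup.sr.inj (hfinj h1)
    have h3 : ((2 : ℕ) : ZMod n) = 0 := by
      push_cast
      linear_combination -h2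
    rw [ZMod.natCast_eq_zero_iff] at h3
    exact hne (le_antisymm (Nat.le_of_dvd two_pos h3) hn)
  obtain ⟨w, hwS, hw⟩ : ∃ w ∈ (S : Subgroup G), ∀ x ∈ O, w * x * w⁻¹ = x⁻¹ := by
    by_cases h0 : f (sr 0) = t
    · refine ⟨f (sr 1), hfS _, hsr 1 fun h1 => ?_⟩
      have h2 : (0 : ZMod n) = 1 := DihedralGroup.sr.inj (hfinj (h0.trans h1.symm))
      have h3 : ((1 : ℕ) : ZMod n) = 0 := by push_cast; exact h2.symm
      rw [ZMod.natCast_eq_zero_iff, Nat.dvd_one] at h3
      omega
    · exact ⟨_, hfS _, hsr 0 h0⟩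
  have hdich : ∀ s ∈ (S : Subgroup G), (∀ x ∈ O, s * x * s⁻¹ = x) ∨ ∀ x ∈ O, s * x * s⁻¹ = x⁻¹ := by
    intro s hs
    obtain ⟨d, rfl⟩ := hfsurj s hs
    have hS1 : ∀ i, (∀ x ∈ O, f (sr i) * x * (f (sr i))⁻¹ = x) ∨
        ∀ x ∈ O, f (sr i) * x * (f (sr i))⁻¹ = x⁻¹ := fun i => by
      by_cases hi : f (sr i) = t
      · exact Or.inl fun x hx => by rw [hi]; exact htc x hx
      · exact Or.inr (hsr i hi)
    rcases d with i | i
    · have he : f (r i) = f (sr 0) * f (sr i) := by rw [← map_mul, sr_mul_sr, sub_zero]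
      have hcomp : ∀ a b : G, (∀ x ∈ O, a * x * a⁻¹ = x) → (∀ x ∈ O, b * x * b⁻¹ = x⁻¹) →
          ∀ x ∈ O, (a * b) * x * (a * b)⁻¹ = x⁻¹ := fun a b ha hb x hx => by
        calc (a * b) * x * (a * b)⁻¹ = a * (b * x * b⁻¹) * a⁻¹ := by group
          _ = x⁻¹ := by rw [hb x hx, ha _ (inv_mem hx)]
      rcases hS1 0 with h0 | h0 <;> rcases hS1 i with hi | hi
      · refine Or.inl fun x hx => ?_
        calc f (r i) * x * (f (r i))⁻¹ = f (sr 0) * (f (sr i) * x * (f (sr i))⁻¹) * (f (sr 0))⁻¹ := by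
              rw [he]; group
          _ = x := by rw [hi x hx, h0 x hx]
      · exact Or.inr (he ▸ hcomp _ _ h0 hi)
      · refine Or.inr fun x hx => ?_
        calc f (r i) * x * (f (r i))⁻¹ = f (sr 0) * (f (sr i) * x * (f (sr i))⁻¹) * (f (sr 0))⁻¹ := by
              rw [he]; group
          _ = x⁻¹ := by rw [hi x hx, h0 x hx]
      · exact Or.inl (he ▸ hrot _ _ h0 hi)
    · exact hS1 i
  have hmemK : ∀ s ∈ (S : Subgroup G), (∀ x ∈ O, s * x * s⁻¹ = x) → s ∈ K := fun s hs h => hK ▸ ⟨hs,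
    mem_centralizer_iff.2 fun x hx => (mul_inv_eq_iff_eq_mul.1 (h x hx)).symm⟩
  refine Cfsg.Agent.S0508.result S n hn ⟨e⟩ t ht htS htZ O hO (fun hne => ?_) ?_ hc
  · obtain ⟨x₀, hx₀, hx₀1⟩ := hone.resolve_left hne
    rw [← hK]
    have hwK : w ∉ K := fun h => hx₀1 (by
      rw [hK] at h
      rw [← hw x₀ hx₀, ← (mem_centralizer_iff.1 h.2 x₀ hx₀), mul_inv_cancel_right])
    refine ⟨?_, ?_⟩
    · -- the centraliser is cyclic
      by_cases hrotK : ∀ i, f (sr i) ∉ K
      · have hle : K ≤ (Subgroup.zpowers (r (1 : ZMod n))).map f := by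
          intro s hs
          obtain ⟨d, rfl⟩ := hfsurj s (hK.le hs).1
          rcases d with i | i
          · exact ⟨r i, ⟨(i.val : ℤ), by simp [r_one_pow]⟩, rfl⟩
          · exact absurd hs (hrotK i)
        have : IsCyclic ((Subgroup.zpowers (r (1 : ZMod n))).map f) :=
          ((Subgroup.zpowers (r (1 : ZMod n))).equivMapOfInjective f hfinj).isCyclic.1 inferInstance
        exact Subgroup.isCyclic_of_le hle
      · push Not at hrotK
        obtain ⟨i, hi⟩ := hrotK
        have hit : f (sr i) = t := by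
          by_contra h
          refine hx₀1 ?_
          rw [hK] at hi
          rw [← hsr i h x₀ hx₀, ← (mem_centralizer_iff.1 hi.2 x₀ hx₀), mul_inv_cancel_right]
        have h4 : n = 2 := hn2 i hit
        have hlt : K < (S : Subgroup G) := lt_of_le_of_ne (hK ▸ inf_le_left) fun h => hwK (h ▸ hwS)
        obtain ⟨k, hk⟩ := IsPGroup.iff_card.1 (S.isPGroup'.to_le hlt.le)
        have hcard : Nat.card (S : Subgroup G) = 4 := by
          rw [Nat.card_congr e.toEquiv, DihedralGroup.nat_card, h4]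
        have h5 : Nat.card K < 4 := hcard ▸ (lt_of_le_of_ne (Subgroup.card_le_of_le hlt.le)
          fun h => hlt.ne (Subgroup.eq_of_le_of_card_ge hlt.le h.ge))
        rcases k with _ | _ | k
        · haveI := (Nat.card_eq_one_iff_unique.1 (hk.trans (pow_zero 2))).1
          exact isCyclic_of_subsingleton
        · haveI := Fact.mk Nat.prime_two
          exact isCyclic_of_prime_card (p := 2) (by simpa using hk)
        · rw [hk, pow_succ, pow_succ] at h5
          have := Nat.one_le_two_pow (n := k)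
          omega
    · refine Subgroup.index_eq_two_iff.2 ⟨⟨w, hwS⟩, fun b => ?_⟩
      simp only [mem_subgroupOf, Subgroup.coe_mul]
      rcases hdich b b.2 with hb | hb
      · refine Or.inr ⟨hmemK _ b.2 hb, fun h => hwK ?_⟩
        have h2 := K.mul_mem (K.inv_mem (hmemK _ b.2 hb)) h
        rwa [inv_mul_cancel_left] at h2
      · refine Or.inl ⟨hmemK _ (mul_mem b.2 hwS) (hrot _ _ hb hw), fun h => hx₀1 ?_⟩
        rw [hK] at h
        rw [← hb x₀ hx₀, ← (mem_centralizer_iff.1 h.2 x₀ hx₀), mul_inv_cancel_right]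
  · intro s hs hsc x hx
    rcases hdich s hs with h | h
    · exact absurd (hK.le (hmemK s hs h)).2 hsc
    · exact h x hx

/-- A non-abelian simple `PSL₂` over a field of odd order has more than three scalars. -/
theorem isPSL_of_psl (hG : ¬ IsMulCommutative G)
    (h : ∃ (F : Type) (_ : Field F) (_ : Fintype F), Odd (Fintype.card F) ∧
      Nonempty (G ≃* Matrix.ProjectiveSpecialLinearGroup (Fin 2) F)) : IsPSLTwoOrSeven G := by
  classical
  obtain ⟨F, hFld, hFin, hF, ⟨e⟩⟩ := h
  refine Or.inl ⟨F, hFld, hFin, hF, ?_, ⟨e⟩⟩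
  have h1 : 1 < Fintype.card F := Fintype.one_lt_card
  obtain ⟨k, hk⟩ := hF
  by_contra hlt
  have h3 : Fintype.card F = 3 := by omega
  have hdiv : Nat.card G ∣ 2 ^ 4 * 3 := by
    have h2 : Nat.card (GL (Fin 2) F) = 48 := by
      rw [Matrix.card_GL_field]
      simp [Fin.prod_univ_two, h3]
    have h4 : Nat.card (Matrix.SpecialLinearGroup (Fin 2) F) ∣ 48 := h2 ▸
      Subgroup.card_dvd_of_injective Matrix.SpecialLinearGroup.toGL
        (fun a b hab => Subtype.ext (congrArg (fun u : GL (Fin 2) F => (u : Matrix (Fin 2) (Fin 2) F)) hab))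
    rw [Nat.card_congr e.toEquiv]
    exact dvd_trans (Subgroup.card_quotient_dvd_card _) (h4.trans (by norm_num))
  obtain ⟨d₁, d₂, h5, h6, hd⟩ := (Nat.dvd_mul).1 hdiv
  obtain ⟨i, -, rfl⟩ := (Nat.dvd_prime_pow Nat.prime_two).1 h5
  obtain ⟨j, -, rfl⟩ := (Nat.dvd_prime_pow Nat.prime_three).1 (show d₂ ∣ 3 ^ 1 by simpa using h6)
  have hsol : Group.IsSolvable G := Cfsg.Agent.S0144.result 2 3 i j Nat.prime_two Nat.prime_three hd.symm
  exact hG ⟨⟨fun a b => IsSimpleGroup.comm_iff_isSolvable.2 hsol a b⟩⟩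

/-- An element of order four centralised by no element of odd order, with Sylow subgroups of order eight. -/
theorem small_of_order_four (hG : ¬ IsMulCommutative G) (S : Sylow 2 G)
    (hS : Nonempty ((S : Subgroup G) ≃* DihedralGroup 4)) (s : G) (hs : orderOf s = 4)
    (hc : ∀ c : G, c * s = s * c → Odd (orderOf c) → c = 1) : IsPSLTwoOrSeven G := by
  classical
  have := Fact.mk Nat.prime_two
  obtain ⟨C, hC⟩ : ∃ C, C = Subgroup.centralizer ({s} : Set G) := ⟨_, rfl⟩
  have hsC : s ∈ C := hC ▸ mem_centralizer_singleton_iff.2 rfl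
  have h2 : IsPGroup 2 C := by
    rw [IsPGroup.iff_orderOf]
    intro c
    obtain ⟨k, m, hm, hk⟩ := Nat.exists_eq_two_pow_mul_odd (orderOf_pos c).ne'
    refine ⟨k, ?_⟩
    have hord : orderOf ((c : G) ^ 2 ^ k) = m := by
      rw [orderOf_pow, Subgroup.orderOf_coe, hk, Nat.gcd_eq_right ⟨m, rfl⟩, Nat.mul_div_cancel_left _ (by positivity)]
    have h1 := hc _ ((Commute.pow_left (mem_centralizer_singleton_iff.1 (hC.le c.2)) _).eq) (hord.symm ▸ hm)
    rw [h1, orderOf_one] at hord
    rw [hk, ← hord, mul_one]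
  obtain ⟨T, hT⟩ := h2.exists_le_sylow
  obtain ⟨g, hg⟩ := MulAction.exists_smul_eq G T S
  have eT : (T : Subgroup G) ≃* DihedralGroup 4 := by
    have e1 : (T : Subgroup G) ≃* (MulAut.conj g • (T : Subgroup G) : Subgroup G) :=
      Subgroup.equivSMul (MulAut.conj g) (T : Subgroup G)
    have e2 : (MulAut.conj g • (T : Subgroup G) : Subgroup G) = (S : Subgroup G) := by rw [← hg]; rfl
    exact (e1.trans (MulEquiv.subgroupCongr e2)).trans hS.some
  have hT8 : Nat.card (T : Subgroup G) = 8 := by rw [Nat.card_congr eT.toEquiv, DihedralGroup.nat_card]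
  have hcard : Nat.card C ≤ 4 := by
    by_contra hgt
    have hdvd := Subgroup.card_dvd_of_le hT
    rw [hT8] at hdvd
    have h8 : Nat.card C = 8 := by
      obtain ⟨i, hi, hik⟩ := (Nat.dvd_prime_pow Nat.prime_two).1 (show Nat.card C ∣ 2 ^ 3 by simpa using hdvd)
      interval_cases i <;> simp_all
    have hCT : C = (T : Subgroup G) := Subgroup.eq_of_le_of_card_ge hT (by rw [h8, hT8])
    -- so the element would be central in a dihedral group of order eight
    let d : DihedralGroup 4 := eT ⟨s, hT hsC⟩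
    have hd : ∀ x, x * d = d * x := fun x => by
      obtain ⟨y, rfl⟩ := eT.surjective x
      show eT y * eT _ = eT _ * eT y
      rw [← map_mul, ← map_mul]
      exact congrArg eT (Subtype.ext (mem_centralizer_singleton_iff.1 (hC.le (hCT ▸ y.2))))
    have hd4 : orderOf d = 4 := by
      rw [MulEquiv.orderOf_eq, Subgroup.orderOf_mk, hs]
    rcases hdd : d with i | i
    · have h1 := hd (sr 0)
      rw [hdd, sr_mul_r, r_mul_sr, sr.injEq] at h1
      rw [hdd, orderOf_r] at hd4
      have key : ∀ i : ZMod 4, 0 + i = 0 - i → i = 0 ∨ i = 2 := by decide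
      have : i = 0 ∨ i = 2 := key i h1
      rcases this with rfl | rfl <;> revert hd4 <;> decide
    · rw [hdd, orderOf_sr] at hd4
      omega
  have hncyc : ¬ IsCyclic G := fun h => hG (by
    have := h
    exact ⟨⟨fun a b => IsCyclic.isMulCommutative.is_comm.comm a b⟩⟩)
  have hG8 : 8 ∣ Nat.card G := hT8 ▸ Subgroup.card_subgroup_dvd_card _
  rcases Cfsg.Agent.S3280.result hncyc s (hC ▸ hcard) with ⟨⟨h⟩⟩ | ⟨⟨h⟩⟩ | h | ⟨F, _, _, hF, h⟩
  · exfalso
    rw [Nat.card_congr h.toEquiv, nat_card_alternatingGroup, Nat.card_eq_fintype_card, Fintype.card_fin] at hG8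
    revert hG8
    decide
  · letI := Fintype.ofFinite (GaloisField 3 2)
    have hcard : Fintype.card (GaloisField 3 2) = 9 := by
      rw [← Nat.card_eq_fintype_card, GaloisField.card 3 2 two_ne_zero]; rfl
    obtain ⟨e9⟩ := Cfsg.Agent.S0254.result hcard
    exact Or.inl ⟨GaloisField 3 2, inferInstance, inferInstance, by rw [hcard]; decide, by rw [hcard]; norm_num,
      ⟨h.trans e9.symm⟩⟩
  · exact Or.inr h
  · exact Or.inl ⟨F, _, _, by rw [hF]; decide, by rw [hF]; norm_num, h⟩

end Cfsg.Agent.Invol.GW
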