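import Cfsg.Agent.Lib.Invol.DihedralNPC
import Cfsg.Agent.Lib.Block.QuaternionSylow
import Cfsg.Agent.Lib.Grp.Frattini
import Cfsg.Agent.Lib.Transfer.NormalComplement
import Cfsg.Agent.S0205

/-!
# The quotient of a perfect group with dihedral Sylow 2-subgroups by its core is simple
-/

set_option autoImplicit false
set_option linter.unusedSectionVars false

namespace Cfsg.Agent.Invol.GW

open Subgroup DihedralGroup
open scoped commutatorElement

universe u

variable {G : Type u} [Group G] [Finite G]

/-- A normal subgroup of a dihedral group is made of rotations or contains every second rotation. -/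
theorem normal_dichotomy {m : ℕ} [NeZero m] (T : Subgroup (DihedralGroup m)) [T.Normal] :
    T ≤ Subgroup.zpowers (r 1) ∨ T.index ≤ 2 := by
  by_cases hT : ∀ x ∈ T, ∃ i, x = r i
  · refine Or.inl fun x hx => ?_
    obtain ⟨i, rfl⟩ := hT x hx
    exact ⟨(i.val : ℤ), by simp [r_one_pow]⟩
  push Not at hT
  obtain ⟨x, hx, hne⟩ := hT
  rcases x with i | i
  · exact absurd rfl (hne i)
  refine Or.inr ?_
  have hr2 : (r 2 : DihedralGroup m) ∈ T := by
    have h1 := T.mul_mem hx (Subgroup.Normal.conj_mem ‹T.Normal› _ hx (r (1 : ZMod m)))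
    rw [inv_r, r_mul_sr, sr_mul_r, sr_mul_sr] at h1
    have h2 := T.inv_mem h1
    rw [inv_r] at h2
    convert h2 using 2
    ring
  have hr : ∀ k : ℕ, (r ((2 * k : ℕ) : ZMod m) : DihedralGroup m) ∈ T := fun k => by
    induction k with
    | zero => simpa using T.one_mem
    | succ k ih =>
      have := T.mul_mem ih hr2
      rw [r_mul_r] at this
      convert this using 2
      push_cast
      ring
  have hsurj : ∀ q : DihedralGroup m ⧸ T, ∃ b : Bool,
      q = if b then QuotientGroup.mk (r 1) else QuotientGroup.mk 1 := by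
    intro q
    induction q using QuotientGroup.induction_on with
    | H y =>
      have hrot : ∀ j : ZMod m, ∃ b : Bool, (QuotientGroup.mk (r j) : DihedralGroup m ⧸ T) =
          if b then QuotientGroup.mk (r 1) else QuotientGroup.mk 1 := by
        intro j
        rcases Nat.even_or_odd j.val with ⟨k, hk⟩ | ⟨k, hk⟩
        · refine ⟨false, ?_⟩
          rw [if_neg Bool.false_ne_true]
          refine QuotientGroup.eq.2 ?_
          rw [mul_one, ← ZMod.natCast_zmod_val j, hk, ← two_mul]
          exact T.inv_mem (hr k)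
        · refine ⟨true, ?_⟩
          rw [if_pos rfl]
          refine QuotientGroup.eq.2 ?_
          have e : (r j)⁻¹ * r 1 = (r ((2 * k : ℕ) : ZMod m) : DihedralGroup m)⁻¹ := by
            rw [inv_r, inv_r, r_mul_r]
            congr 1
            have hj : j = ((2 * k + 1 : ℕ) : ZMod m) := by rw [← hk, ZMod.natCast_zmod_val]
            rw [hj]
            push_cast
            ring
          rw [e]
          exact T.inv_mem (hr k)
      rcases y with j | j
      · exact hrot j
      · obtain ⟨b, hb⟩ := hrot (i - j)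
        refine ⟨b, ?_⟩
        rw [← hb]
        refine QuotientGroup.eq.2 ?_
        rw [inv_sr, sr_mul_r, show j + (i - j) = i by ring]
        exact hx
  calc T.index = Nat.card (DihedralGroup m ⧸ T) := rfl
    _ ≤ Nat.card Bool := Nat.card_le_card_of_surjective
        (fun b : Bool => (if b then QuotientGroup.mk (r 1) else QuotientGroup.mk 1 : DihedralGroup m ⧸ T))
        fun q => (hsurj q).elim fun b hb => ⟨b, hb.symm⟩
    _ = 2 := by simp

/-- A perfect group with cyclic Sylow 2-subgroups is trivial. -/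
theorem subsingleton_of_cyclic {X : Type u} [Group X] [Finite X] (hp : commutator X = ⊤) (Q : Sylow 2 X)
    (hQ : IsCyclic (Q : Subgroup X)) : Subsingleton X := by
  obtain ⟨K, hK, hodd, hidx⟩ := Block.cyclic_two_complement Q hQ
  have : IsMulCommutative (X ⧸ K) := by
    obtain ⟨k, hk⟩ := IsPGroup.iff_card.1 Q.isPGroup'
    by_contra hne
    have hsol : Group.IsSolvable (X ⧸ K) := by
      have h2 : IsPGroup 2 (X ⧸ K) := IsPGroup.of_card (n := k) (by rw [← hk, ← hidx]; rfl)
      have : Fact (Nat.Prime 2) := ⟨Nat.prime_two⟩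
      have := h2.isNilpotent
      infer_instance
    refine hne ?_
    have : Subsingleton (X ⧸ K) := by
      by_contra hns
      rw [not_subsingleton_iff_nontrivial] at hns
      refine (Group.IsSolvable.commutator_lt_top_of_nontrivial (X ⧸ K)).ne ?_
      rw [← Subgroup.map_top_of_surjective (QuotientGroup.mk' K) (QuotientGroup.mk'_surjective K), ← hp,
        _root_.commutator_def, _root_.commutator_def, Subgroup.map_commutator,
        Subgroup.map_top_of_surjective (QuotientGroup.mk' K) (QuotientGroup.mk'_surjective K)]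
    exact ⟨⟨fun a b => Subsingleton.elim _ _⟩⟩
  have hKtop : K = ⊤ := by
    rw [eq_top_iff, ← hp, _root_.commutator_def, Subgroup.commutator_le]
    intro a _ b _
    rw [← QuotientGroup.eq_one_iff]
    show QuotientGroup.mk' K ⁅a, b⁆ = 1
    rw [map_commutatorElement, commutatorElement_eq_one_iff_mul_comm]
    exact this.is_comm.comm _ _
  have hXodd : Odd (Nat.card X) := by
    rw [Nat.odd_iff, ← Subgroup.card_top (G := X), ← hKtop]
    omega
  by_contra hns
  rw [not_subsingleton_iff_nontrivial] at hns
  have := Cfsg.Agent.S0205.result hXodd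
  exact (Group.IsSolvable.commutator_lt_top_of_nontrivial X).ne hp

theorem commutator_quotient {X : Type u} [Group X] (N : Subgroup X) [N.Normal] (hp : commutator X = ⊤) :
    commutator (X ⧸ N) = ⊤ := by
  rw [← Subgroup.map_top_of_surjective (QuotientGroup.mk' N) (QuotientGroup.mk'_surjective N), ← hp,
    _root_.commutator_def, _root_.commutator_def, Subgroup.map_commutator,
    Subgroup.map_top_of_surjective (QuotientGroup.mk' N) (QuotientGroup.mk'_surjective N)]

/-- A perfect group with dihedral Sylow 2-subgroups and no normal subgroup of odd order has no central involution. -/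
theorem no_central_involution (hp : commutator G = ⊤) (P : Sylow 2 G) {m : ℕ} [NeZero m] (hm : 2 ∣ m)
    (e : (P : Subgroup G) ≃* DihedralGroup m) (z : G) (hz : orderOf z = 2) (hzc : z ∈ Subgroup.center G)
    (hzr : z = ((e.symm (r ((m / 2 : ℕ) : ZMod m)) : (P : Subgroup G)) : G)) : False := by
  have hnpc := Cfsg.Agent.Grp.DihNPC.npc_of_not_fused P hm e fun i hc => by
    obtain ⟨g, hg⟩ := isConj_iff.mp hc
    have h1 : ((e.symm (sr i) : (P : Subgroup G)) : G) = z := by
      rw [← hzr] at hg
      have hzg : g * z * g⁻¹ = z := by rw [Subgroup.mem_center_iff.1 hzc g, mul_inv_cancel_right]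
      exact mul_left_cancel (mul_right_cancel (hg.trans hzg.symm))
    rw [hzr] at h1
    have h2 := e.symm.injective (Subtype.ext h1)
    cases h2
  obtain ⟨Q, N, hN, hNQ⟩ := hnpc
  have : Fact (Nat.Prime 2) := ⟨Nat.prime_two⟩
  have h2 : IsPGroup 2 (G ⧸ N) := by
    obtain ⟨k, hk⟩ := IsPGroup.iff_card.1 Q.isPGroup'
    exact IsPGroup.of_card (n := k) (by rw [← hk, ← hNQ.symm.index_eq_card]; rfl)
  have := h2.isNilpotent
  rcases subsingleton_or_nontrivial (G ⧸ N) with hs | hs
  · have hNtop : N = ⊤ := eq_top_iff.2 fun x _ => (QuotientGroup.eq_one_iff x).1 (Subsingleton.elim _ _)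
    have h3 : (Q : Subgroup G) = ⊥ := by
      rw [← Subgroup.card_eq_one, ← hNQ.symm.index_eq_card, hNtop, Subgroup.index_top]
    have h4 : 2 ∣ Nat.card G := hz ▸ _root_.orderOf_dvd_natCard z
    have := Q.not_dvd_index
    rw [h3, Subgroup.index_bot] at this
    exact this h4
  · exact (Group.IsSolvable.commutator_lt_top_of_nontrivial (G ⧸ N)).ne (commutator_quotient N hp)

/-- A perfect group with dihedral Sylow 2-subgroups and trivial core is simple. -/
theorem isSimple_of_dihedral (hp : commutator G = ⊤) (hO : Cfsg.pPrimeCore 2 G = ⊥) (S : Sylow 2 G) {n : ℕ}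
    (hn : 2 ≤ n) (e : (S : Subgroup G) ≃* DihedralGroup n) : IsSimpleGroup G := by
  classical
  have : Fact (Nat.Prime 2) := ⟨Nat.prime_two⟩
  have : NeZero n := ⟨by omega⟩
  have hn2 : 2 ∣ n := by
    obtain ⟨k, hk⟩ := IsPGroup.iff_card.1 S.isPGroup'
    rw [Nat.card_congr e.toEquiv, DihedralGroup.nat_card] at hk
    rcases k with _ | _ | k
    · simp at hk
    · simp at hk; omega
    · rw [pow_succ, pow_succ] at hk; omega
  have : Nontrivial G :=
    ⟨(e.symm (sr 0) : (S : Subgroup G)), 1, fun h => by
      have h1 : e.symm (sr 0) = 1 := Subtype.ext h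
      rw [← map_one e.symm] at h1
      cases e.symm.injective h1⟩
  refine ⟨fun N hN => ?_⟩
  by_contra hne
  rw [not_or] at hne
  -- the intersection with the Sylow subgroup
  obtain ⟨T, hT⟩ : ∃ T : Subgroup (DihedralGroup n), T = (N.subgroupOf (S : Subgroup G)).map e.toMonoidHom :=
    ⟨_, rfl⟩
  have : T.Normal := hT ▸ Subgroup.Normal.map inferInstance _ e.surjective
  have hTidx : T.index = (N.subgroupOf (S : Subgroup G)).index := by
    rw [hT]
    exact Subgroup.index_map_equiv _ e
  have hSN : ¬ 2 ∣ ((S : Subgroup G) ⊓ N).relIndex N := by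
    rw [Subgroup.inf_relIndex_right]
    exact Grp.sylow_inf_normal_relIndex S N
  rcases normal_dichotomy T with hrot | hidx
  · -- cyclic intersection: the subgroup is a central 2-group
    have hcyc : IsCyclic ↥((S : Subgroup G) ⊓ N) := by
      have : IsCyclic T := Subgroup.isCyclic_of_le hrot
      have e1 : (N.subgroupOf (S : Subgroup G)) ≃* T :=
        (Subgroup.equivMapOfInjective _ e.toMonoidHom e.injective).trans (MulEquiv.subgroupCongr hT.symm)
      have : IsCyclic (N.subgroupOf (S : Subgroup G)) :=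
        isCyclic_of_injective e1.toMonoidHom e1.injective
      have e2 : N.subgroupOf (S : Subgroup G) = ((S : Subgroup G) ⊓ N).subgroupOf (S : Subgroup G) :=
        (Subgroup.inf_subgroupOf_left ..).symm
      exact (Subgroup.subgroupOfEquivOfLe (inf_le_left : (S : Subgroup G) ⊓ N ≤ S)).isCyclic.1 (e2 ▸ inferInstance)
    let Q : Sylow 2 N := ((S.isPGroup'.to_le (inf_le_left : (S : Subgroup G) ⊓ N ≤ S)).comap_subtype (K := N)).toSylow hSN
    have hQ : IsCyclic (Q : Subgroup N) :=
      (Subgroup.subgroupOfEquivOfLe (inf_le_right : (S : Subgroup G) ⊓ N ≤ N)).isCyclic.2 hcyc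
    obtain ⟨K, hK, hodd, hKidx⟩ := Block.cyclic_two_complement Q hQ
    -- the complement is characteristic, hence trivial
    have hKc : (K.map N.subtype).Normal := by
      have : K.Characteristic := by
        refine Subgroup.characteristic_iff_map_le.2 fun φ x hx => ?_
        obtain ⟨y, hy, rfl⟩ := hx
        rw [← QuotientGroup.eq_one_iff]
        have h1 : orderOf (QuotientGroup.mk' K (φ y)) ∣ orderOf y := by
          refine (orderOf_map_dvd _ _).trans ?_
          rw [show orderOf (φ y) = orderOf y from orderOf_injective φ.toMonoidHom φ.injective y]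
        have h2 : orderOf (QuotientGroup.mk' K (φ y)) ∣ Nat.card (Q : Subgroup N) :=
          hKidx ▸ _root_.orderOf_dvd_natCard _
        obtain ⟨k, hk⟩ := IsPGroup.iff_card.1 Q.isPGroup'
        have h3 : (orderOf y).Coprime (2 ^ k) := by
          refine Nat.Coprime.pow_right _ (Nat.coprime_comm.1 ((Nat.prime_two.coprime_iff_not_dvd).2 fun h => hodd ?_))
          exact h.trans (Subgroup.orderOf_dvd_natCard _ hy)
        exact orderOf_eq_one_iff.1 (Nat.eq_one_of_dvd_coprimes h3 h1 (hk ▸ h2))
      exact ConjAct.normal_of_characteristic_of_normal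
    have hK1 : K = ⊥ := by
      have h1 : K.map N.subtype ≤ Cfsg.pPrimeCore 2 G := Grp.le_pPrimeCore hKc (by
        rw [Subgroup.card_map_of_injective N.subtype_injective]
        exact Nat.coprime_comm.1 ((Nat.prime_two.coprime_iff_not_dvd).2 hodd))
      rw [hO, le_bot_iff, Subgroup.map_eq_bot_iff_of_injective _ N.subtype_injective] at h1
      exact h1
    have hQtop : (Q : Subgroup N) = ⊤ := by
      refine Subgroup.eq_top_of_card_eq _ ?_
      rw [← hKidx, hK1, Subgroup.index_bot]
    have hN2 : N ≤ (S : Subgroup G) := fun x hx => by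
      have h1 : (⟨x, hx⟩ : N) ∈ (Q : Subgroup N) := hQtop ▸ Subgroup.mem_top _
      exact (Subgroup.mem_subgroupOf.1 h1).1
    have : IsCyclic N := (Subgroup.topEquiv (G := N)).isCyclic.1 (hQtop ▸ hQ)
    -- a perfect group centralises a cyclic normal subgroup
    have hcent : N ≤ Subgroup.center G := by
      have hcomm : ∀ φ ψ : MulAut N, φ * ψ = ψ * φ := fun φ ψ => by
        obtain ⟨g, hg⟩ := IsCyclic.exists_generator (α := N)
        obtain ⟨a, ha⟩ := hg (φ g)
        obtain ⟨b, hb⟩ := hg (ψ g)
        refine MulEquiv.ext fun y => ?_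
        obtain ⟨k, rfl⟩ := hg y
        show φ (ψ (g ^ k)) = ψ (φ (g ^ k))
        simp only [map_zpow]
        simp only at ha hb
        rw [← hb, ← ha, map_zpow, map_zpow, ← hb, ← ha, ← zpow_mul, ← zpow_mul, ← zpow_mul, ← zpow_mul,
          mul_left_comm, ← mul_assoc]
      have hker : (MulAut.conjNormal : G →* MulAut N).ker = ⊤ := by
        rw [eq_top_iff, ← hp, _root_.commutator_def, Subgroup.commutator_le]
        intro a _ b _
        rw [MonoidHom.mem_ker, map_commutatorElement, commutatorElement_eq_one_iff_mul_comm]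
        exact hcomm _ _
      intro x hx
      rw [Subgroup.mem_center_iff]
      intro g
      have h1 : (MulAut.conjNormal g : MulAut N) ⟨x, hx⟩ = ⟨x, hx⟩ := by
        rw [show (MulAut.conjNormal g : MulAut N) = 1 from MonoidHom.mem_ker.1 (hker ▸ Subgroup.mem_top g)]
        rfl
      have h2 := congrArg Subtype.val h1
      rw [MulAut.conjNormal_apply] at h2
      exact mul_inv_eq_iff_eq_mul.1 h2
    -- so it contains the central rotation
    obtain ⟨x, hxN, hx1⟩ := (Subgroup.bot_or_exists_ne_one N).resolve_left hne.1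
    have hev : 2 ∣ orderOf (⟨x, hN2 hxN⟩ : (S : Subgroup G)) := by
      obtain ⟨k, hk⟩ := IsPGroup.iff_orderOf.1 S.isPGroup' ⟨x, hN2 hxN⟩
      rcases k with _ | k
      · rw [pow_zero, orderOf_eq_one_iff] at hk
        exact absurd (congrArg Subtype.val hk) hx1
      · exact hk ▸ dvd_pow_self 2 k.succ_ne_zero
    obtain ⟨z, hz, hz2⟩ : ∃ z : (S : Subgroup G), (z : G) ∈ N ∧ orderOf z = 2 :=
      ⟨_, N.pow_mem hxN (orderOf (⟨x, hN2 hxN⟩ : (S : Subgroup G)) / 2),
        orderOf_pow_orderOf_div (orderOf_pos _).ne' hev⟩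
    obtain ⟨i, hi⟩ : ∃ i, e z = r i := by
      have h1 : e z ∈ Subgroup.zpowers (r (1 : ZMod n)) := hrot (hT ▸ ⟨z, hz, rfl⟩)
      obtain ⟨k, hk⟩ := h1
      exact ⟨k, hk.symm.trans (r_one_zpow k)⟩
    have hord : orderOf (r i) = 2 := by rw [← hi, MulEquiv.orderOf_eq, hz2]
    have hi2 : i = ((n / 2 : ℕ) : ZMod n) := by
      rw [orderOf_r] at hord
      have hv : i.val < n := ZMod.val_lt i
      rw [← ZMod.natCast_zmod_val i]
      congr 1
      obtain ⟨c, hc⟩ := hn2
      have hg : Nat.gcd n i.val = c := by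
        have h1 := Nat.div_mul_cancel (Nat.gcd_dvd_left n i.val)
        rw [hord] at h1
        omega
      obtain ⟨q, hq⟩ := hg ▸ Nat.gcd_dvd_right n i.val
      rcases q with _ | _ | q
      · exfalso
        rw [show i.val = 0 by simpa using hq, Nat.gcd_zero_right] at hg
        omega
      · omega
      · exfalso
        nlinarith [hq, hv, hc, hn]
    refine no_central_involution hp S hn2 e z ((Subgroup.orderOf_coe z).trans hz2) (hcent hz) ?_
    rw [← hi2, ← hi, MulEquiv.symm_apply_apply]
  · -- index at most two: the quotient has cyclic Sylow subgroups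
    let Qb : Sylow 2 (G ⧸ N) := S.mapSurjective (QuotientGroup.mk'_surjective N)
    have hcard : Nat.card (Qb : Subgroup (G ⧸ N)) ≤ 2 := by
      refine le_trans (le_of_eq ?_) (hTidx ▸ hidx)
      have hr : ((S : Subgroup G).map (QuotientGroup.mk' N)) =
          ((QuotientGroup.mk' N).comp (S : Subgroup G).subtype).range := by
        rw [MonoidHom.range_comp, Subgroup.range_subtype]
      show Nat.card ((S : Subgroup G).map (QuotientGroup.mk' N)) = _
      rw [hr, Subgroup.index_eq_card]
      refine (Nat.card_congr (QuotientGroup.quotientKerEquivRange _).toEquiv).symm.trans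
        (Nat.card_congr (QuotientGroup.quotientMulEquivOfEq ?_).toEquiv)
      ext y
      rw [MonoidHom.mem_ker, MonoidHom.comp_apply, Subgroup.mem_subgroupOf]
      exact QuotientGroup.eq_one_iff _
    have hcyc : IsCyclic (Qb : Subgroup (G ⧸ N)) := by
      rcases Nat.lt_or_ge (Nat.card (Qb : Subgroup (G ⧸ N))) 2 with h | h
      · have h1 : Nat.card (Qb : Subgroup (G ⧸ N)) = 1 := le_antisymm (by omega) Nat.card_pos
        have := (Nat.card_eq_one_iff_unique.1 h1).1
        exact isCyclic_of_subsingleton
      · exact isCyclic_of_prime_card (p := 2) (le_antisymm hcard h)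
    have := subsingleton_of_cyclic (commutator_quotient N hp) Qb hcyc
    exact hne.2 (eq_top_iff.2 fun x _ => (QuotientGroup.eq_one_iff x).1 (Subsingleton.elim _ _))

/-- The quotient by the core: simple, not abelian, with the same Sylow 2-subgroups. -/
theorem quotient_core_simple {X : Type u} [Group X] [Finite X] [Group.IsPerfect X] (S : Sylow 2 X) {n : ℕ}
    (hn : 2 ≤ n) (e : (S : Subgroup X) ≃* DihedralGroup n) :
    IsSimpleGroup (X ⧸ Cfsg.oddCore X) ∧ ¬ IsMulCommutative (X ⧸ Cfsg.oddCore X) ∧
      ∃ T : Sylow 2 (X ⧸ Cfsg.oddCore X), Nonempty ((T : Subgroup (X ⧸ Cfsg.oddCore X)) ≃* DihedralGroup n) := by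
  have : Fact (Nat.Prime 2) := ⟨Nat.prime_two⟩
  have hnorm : (Cfsg.pPrimeCore 2 X).Normal := Grp.pPrimeCore_isNormal
  let π := QuotientGroup.mk' (Cfsg.pPrimeCore 2 X)
  let T : Sylow 2 (X ⧸ Cfsg.pPrimeCore 2 X) := S.mapSurjective (QuotientGroup.mk'_surjective _)
  have hinj : Function.Injective (π.comp (S : Subgroup X).subtype) := by
    rw [← MonoidHom.ker_eq_bot_iff, eq_bot_iff]
    intro x hx
    rw [MonoidHom.mem_ker, MonoidHom.comp_apply] at hx
    have h1 : (x : X) ∈ Cfsg.pPrimeCore 2 X := (QuotientGroup.eq_one_iff _).1 hx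
    obtain ⟨k, hk⟩ := IsPGroup.iff_orderOf.1 S.isPGroup' x
    rw [Subgroup.mem_bot, ← orderOf_eq_one_iff]
    refine Nat.eq_one_of_dvd_coprimes ((Grp.pPrimeCore_coprime (G := X) (p := 2)).pow_right k) ?_ hk.dvd
    rw [← Subgroup.orderOf_coe]
    exact Subgroup.orderOf_dvd_natCard _ h1
  have eT : (T : Subgroup (X ⧸ Cfsg.pPrimeCore 2 X)) ≃* DihedralGroup n := by
    have e1 : (S : Subgroup X) ≃* (π.comp (S : Subgroup X).subtype).range := MonoidHom.ofInjective hinj
    have e2 : (π.comp (S : Subgroup X).subtype).range = (T : Subgroup (X ⧸ Cfsg.pPrimeCore 2 X)) := by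
      rw [MonoidHom.range_comp, Subgroup.range_subtype]
      rfl
    exact ((e1.trans (MulEquiv.subgroupCongr e2)).symm).trans e
  have hp : commutator (X ⧸ Cfsg.pPrimeCore 2 X) = ⊤ :=
    commutator_quotient _ Group.IsPerfect.commutator_eq_top
  have hsimp := isSimple_of_dihedral hp Grp.pPrimeCore_quotient_eq_bot T hn eT
  refine ⟨hsimp, fun hc => ?_, ⟨T, ⟨eT⟩⟩⟩
  have hbot : commutator (X ⧸ Cfsg.pPrimeCore 2 X) = ⊥ := by
    rw [eq_bot_iff, _root_.commutator_def, Subgroup.commutator_le]
    intro a _ b _
    rw [Subgroup.mem_bot, commutatorElement_eq_one_iff_mul_comm]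
    exact hc.is_comm.comm a b
  have := hsimp.toNontrivial
  exact bot_ne_top (hbot.symm.trans hp)

end Cfsg.Agent.Invol.GW
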